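import Groth.Agent.OmegaUnivLib.Basic

/-!
# Universal derivations restrict to open subschemes
-/

set_option autoImplicit false
set_option linter.style.haveILetI false

universe u

open CategoryTheory CategoryTheory.Limits AlgebraicGeometry TopologicalSpace Opposite

namespace Groth.Agent.OmegaUnivLib

variable {X Y X' Y' : Scheme.{u}} {f : X ⟶ Y} {g : X' ⟶ Y'} (j : X' ⟶ X) (k : Y' ⟶ Y)

/-- A derivation pushed forward along a commutative square. -/
noncomputable def pushDer (w : g ≫ k = j ≫ f) {F : X'.Modules} (D : OmegaSh.Der g F) :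
    OmegaSh.Der f ((Scheme.Modules.pushforward j).obj F) :=
  mkDer (fun U => (D.app (j ⁻¹ᵁ U)).comp (j.app U).hom.toAddMonoidHom)
    (fun U a b => by
      show D.app (j ⁻¹ᵁ U) (j.app U (a * b)) = _
      rw [map_mul, app_mul]
      rfl)
    (fun {U V} i s => by
      show D.app (j ⁻¹ᵁ U) (j.app U (X.presheaf.map i.op s)) =
        F.presheaf.map ((Opens.map j.base).map i).op (D.app (j ⁻¹ᵁ V) (j.app V s))
      rw [← app_res]
      exact congrArg (D.app _) congr($(j.naturality i.op) s))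
    (fun W c => by
      show D.app (j ⁻¹ᵁ (f ⁻¹ᵁ W)) (j.app (f ⁻¹ᵁ W) (f.app W c)) = 0
      have hle : j ⁻¹ᵁ (f ⁻¹ᵁ W) ≤ g ⁻¹ᵁ (k ⁻¹ᵁ W) := fun x hx => by
        show k (g x) ∈ W
        rw [← Scheme.Hom.comp_apply, w, Scheme.Hom.comp_apply]
        exact hx
      have key : f.app W ≫ j.app (f ⁻¹ᵁ W) =
          k.app W ≫ g.appLE (k ⁻¹ᵁ W) (j ⁻¹ᵁ (f ⁻¹ᵁ W)) hle := by
        rw [Scheme.Hom.app_eq_appLE, Scheme.Hom.app_eq_appLE, Scheme.Hom.app_eq_appLE,
          Scheme.Hom.appLE_comp_appLE, Scheme.Hom.appLE_comp_appLE]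
        exact OmegaSh.appLE_congr_hom w.symm _ _
      rw [show j.app (f ⁻¹ᵁ W) (f.app W c) = g.appLE (k ⁻¹ᵁ W) (j ⁻¹ᵁ (f ⁻¹ᵁ W)) hle (k.app W c) from
        congr($key c), app_appLE])

theorem pushDer_app (w : g ≫ k = j ≫ f) {F : X'.Modules} (D : OmegaSh.Der g F) (U : X.Opens)
    (s : Γ(X, U)) : (pushDer j k w D).app U s = D.app (j ⁻¹ᵁ U) (j.app U s) :=
  rfl

variable [IsOpenImmersion j]

theorem image_le (w : g ≫ k = j ≫ f) [IsOpenImmersion k] (W : Y'.Opens) :
    j ''ᵁ (g ⁻¹ᵁ W) ≤ f ⁻¹ᵁ (k ''ᵁ W) := by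
  rintro _ ⟨x, hx, rfl⟩
  show f (j x) ∈ k ''ᵁ W
  rw [← Scheme.Hom.comp_apply, ← w, Scheme.Hom.comp_apply]
  exact ⟨g x, hx, rfl⟩

/-- The restriction of a derivation to an open subscheme. -/
noncomputable def restrictDer [IsOpenImmersion k] (w : g ≫ k = j ≫ f) {F : X.Modules}
    (d : OmegaSh.Der f F) : OmegaSh.Der g (F.restrict j) :=
  mkDer (fun W => (d.app (j ''ᵁ W)).comp (j.appIso W).inv.hom.toAddMonoidHom)
    (fun W a b => by
      show d.app (j ''ᵁ W) ((j.appIso W).inv (a * b)) = _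
      rw [map_mul, app_mul]
      rfl)
    (fun {U V} i s => by
      show d.app (j ''ᵁ U) ((j.appIso U).inv (X'.presheaf.map i.op s)) =
        F.presheaf.map (j.opensFunctor.map i).op (d.app (j ''ᵁ V) ((j.appIso V).inv s))
      rw [← app_res]
      exact congrArg (d.app _) congr($(j.appIso_inv_naturality i.op) s))
    (fun W c => by
      show d.app (j ''ᵁ (g ⁻¹ᵁ W)) ((j.appIso (g ⁻¹ᵁ W)).inv (g.app W c)) = 0
      have key : f.appLE (k ''ᵁ W) (j ''ᵁ (g ⁻¹ᵁ W)) (image_le j k w W) ≫ (j.appIso (g ⁻¹ᵁ W)).hom =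
          (k.appIso W).hom ≫ g.app W := by
        rw [Scheme.Hom.appIso_hom', Scheme.Hom.appIso_hom', Scheme.Hom.app_eq_appLE,
          Scheme.Hom.appLE_comp_appLE, Scheme.Hom.appLE_comp_appLE]
        exact OmegaSh.appLE_congr_hom w.symm _ _
      have : (j.appIso (g ⁻¹ᵁ W)).inv (g.app W c) =
          f.appLE (k ''ᵁ W) (j ''ᵁ (g ⁻¹ᵁ W)) (image_le j k w W) ((k.appIso W).inv c) := by
        have h1 := congr($key ((k.appIso W).inv c))
        rw [ConcreteCategory.comp_apply, ConcreteCategory.comp_apply] at h1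
        rw [show (k.appIso W).hom ((k.appIso W).inv c) = c from congr($((k.appIso W).inv_hom_id) c)] at h1
        rw [← h1]
        exact congr($((j.appIso (g ⁻¹ᵁ W)).hom_inv_id) _)
      rw [this, app_appLE])

theorem restrictDer_app [IsOpenImmersion k] (w : g ≫ k = j ≫ f) {F : X.Modules} (d : OmegaSh.Der f F)
    (W : X'.Opens) (s : Γ(X', W)) :
    (restrictDer j k w d).app W s = d.app (j ''ᵁ W) ((j.appIso W).inv s) :=
  rfl

theorem res_appIso_app (U : X.Opens) (s : Γ(X, U)) :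
    (j.appIso (j ⁻¹ᵁ U)).inv (j.app U s) = X.presheaf.map (homOfLE (j.image_preimage_le U)).op s :=
  congr($(j.app_appIso_inv U) s)

theorem res_app_appIso (W : X'.Opens) (s : Γ(X', W)) :
    X'.presheaf.map (eqToHom (j.preimage_image_eq W).symm).op (j.app (j ''ᵁ W) ((j.appIso W).inv s)) = s := by
  have : (j.appIso W).inv ≫ j.app (j ''ᵁ W) ≫
      X'.presheaf.map (eqToHom (j.preimage_image_eq W).symm).op = 𝟙 _ := by
    rw [Scheme.Hom.appIso_inv_app_assoc, ← Functor.map_comp, ← X'.presheaf.map_id]; rfl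
  exact congr($this s)

/-- The restriction of a universal derivation to an open subscheme is universal. -/
theorem isUniversal_restrictDer [IsOpenImmersion k] (w : g ≫ k = j ≫ f) {F : X.Modules}
    {d : OmegaSh.Der f F} (hd : OmegaSh.IsUniversal d) :
    OmegaSh.IsUniversal (restrictDer j k w d) := by
  intro G D
  obtain ⟨α, hα, huniq⟩ := hd ((Scheme.Modules.pushforward j).obj G) (pushDer j k w D)
  let e := (Scheme.Modules.restrictAdjunction j).homEquiv F G
  refine ⟨e.symm α, der_ext fun W s => ?_, fun β hβ => ?_⟩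
  · show (e.symm α).app W (d.app (j ''ᵁ W) ((j.appIso W).inv s)) = D.app W s
    rw [Adjunction.homEquiv_counit]
    show ((Scheme.Modules.restrictAdjunction j).counit.app G).app W
      (α.app (j ''ᵁ W) (d.app (j ''ᵁ W) ((j.appIso W).inv s))) = _
    rw [Scheme.Modules.restrictAdjunction_counit_app_app,
      show α.app (j ''ᵁ W) (d.app (j ''ᵁ W) ((j.appIso W).inv s)) =
        D.app (j ⁻¹ᵁ (j ''ᵁ W)) (j.app (j ''ᵁ W) ((j.appIso W).inv s)) from
        congrArg (fun E : OmegaSh.Der f _ => E.app (j ''ᵁ W) ((j.appIso W).inv s)) hα]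
    refine (app_res D _ _).symm.trans (congrArg (D.app W) ?_)
    exact res_app_appIso j W s
  · refine (e.eq_symm_apply).mpr (huniq _ (der_ext fun U s => ?_))
    show (e β).app U (d.app U s) = D.app (j ⁻¹ᵁ U) (j.app U s)
    rw [Adjunction.homEquiv_unit]
    show β.app (j ⁻¹ᵁ U) (((Scheme.Modules.restrictAdjunction j).unit.app F).app U (d.app U s)) = _
    rw [Scheme.Modules.restrictAdjunction_unit_app_app]
    refine Eq.trans (congrArg (β.app (j ⁻¹ᵁ U)) ?_)
      (congrArg (fun E : OmegaSh.Der g G => E.app (j ⁻¹ᵁ U) (j.app U s)) hβ)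
    show _ = d.app (j ''ᵁ (j ⁻¹ᵁ U)) ((j.appIso (j ⁻¹ᵁ U)).inv (j.app U s))
    rw [res_appIso_app, app_res]
    rfl

end Groth.Agent.OmegaUnivLib
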