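import Groth.Agent.OmegaUnivLib.Aff
import Groth.Agent.PullbackMod.Flat
import Groth.Agent.FlatLocus.ModInjFlat
import Groth.Agent.ZClosLib.Basic

/-!
# Canonical maps between sheaves of differentials on affine pieces
-/

set_option autoImplicit false
set_option linter.style.haveILetI false
set_option maxHeartbeats 600000

universe u

open CategoryTheory CategoryTheory.Limits AlgebraicGeometry TopologicalSpace Opposite TensorProduct

namespace Groth.Agent.OmegaUnivLib

/-- A map of quasi-coherent modules bijective on the members of an affine cover is an isomorphism. -/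
theorem isIso_of_bijective_cover {X : Scheme.{u}} {M N : X.Modules} [Coh.IsQCoh M] [Coh.IsQCoh N]
    (φ : M ⟶ N) (h : ∀ x : X, ∃ W : X.Opens, IsAffineOpen W ∧ x ∈ W ∧ Function.Bijective (φ.app W)) :
    IsIso φ := by
  refine (PullbackMod.isIso_iff_stalk φ).mpr fun x => ?_
  obtain ⟨W, hW, hx, hb⟩ := h x
  letI := Module.compHom (M.presheaf.stalk x) (X.presheaf.germ W x hx).hom
  letI := Module.compHom (N.presheaf.stalk x) (X.presheaf.germ W x hx).hom
  haveI hM := FlatLocus.isLocalizedModule_germL M hW x hx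
  haveI hN := FlatLocus.isLocalizedModule_germL N hW x hx
  let S := (hW.primeIdealOf ⟨x, hx⟩).asIdeal.primeCompl
  let σ : M.presheaf.stalk x →ₗ[Γ(X, W)] N.presheaf.stalk x :=
    { toFun := PullbackMod.stalkLin φ x
      map_add' := map_add _
      map_smul' := fun r z => map_smul (PullbackMod.stalkLin φ x) (X.presheaf.germ W x hx r) z }
  let L : Γ(M, W) →ₗ[Γ(X, W)] Γ(N, W) :=
    { toFun := φ.app W
      map_add' := map_add _
      map_smul' := fun r m => Scheme.Modules.Hom.app_smul φ r m }
  have hσ : IsLocalizedModule.map S (FlatLocus.germL M W x hx) (FlatLocus.germL N W x hx) L = σ := by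
    refine IsLocalizedModule.linearMap_ext S (FlatLocus.germL M W x hx) (FlatLocus.germL N W x hx) ?_
    refine LinearMap.ext fun m => ?_
    rw [LinearMap.comp_apply, LinearMap.comp_apply, IsLocalizedModule.map_apply]
    exact (PullbackMod.stalkLin_germ φ x hx m).symm
  show Function.Bijective σ
  rw [← hσ]
  exact ⟨IsLocalizedModule.map_injective S _ _ L hb.1, IsLocalizedModule.map_surjective S _ _ L hb.2⟩

set_option maxHeartbeats 600000 in
/-- The canonical map of differentials is bijective over affines where the Kähler differentials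
base change. -/
theorem bijective_of_compat {X S X' S' : Scheme.{u}} {f : X ⟶ S} {g : S' ⟶ S} {g' : X' ⟶ X} {f' : X' ⟶ S'}
    (hw : g' ≫ f = f' ≫ g) {Ω : X.Modules} {d : OmegaSh.Der f Ω} (hd : OmegaSh.IsUniversal d)
    {Ω' : X'.Modules} {d' : OmegaSh.Der f' Ω'} (hd' : OmegaSh.IsUniversal d')
    (c : (Scheme.Modules.pullback g').obj Ω ⟶ Ω') (hc : OmegaSh.IsDiffCompat g' d d' c)
    {V : S.Opens} {W : X.Opens} {V' : S'.Opens} {W' : X'.Opens} (hV : IsAffineOpen V)
    (hW : IsAffineOpen W) (hV' : IsAffineOpen V') (hW' : IsAffineOpen W') (e : W ≤ f ⁻¹ᵁ V)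
    (e' : V' ≤ g ⁻¹ᵁ V) (eW : W' ≤ g' ⁻¹ᵁ W) (eV : W' ≤ f' ⁻¹ᵁ V')
    (hK : letI : Algebra Γ(S, V) Γ(X, W) := (f.appLE V W e).hom.toAlgebra
      letI : Algebra Γ(S, V) Γ(S', V') := (g.appLE V V' e').hom.toAlgebra
      letI : Algebra Γ(X, W) Γ(X', W') := (g'.appLE W W' eW).hom.toAlgebra
      letI : Algebra Γ(S', V') Γ(X', W') := (f'.appLE V' W' eV).hom.toAlgebra
      letI : Algebra Γ(S, V) Γ(X', W') := ((g'.appLE W W' eW).hom.comp (f.appLE V W e).hom).toAlgebra
      haveI : IsScalarTower Γ(S, V) Γ(X, W) Γ(X', W') := .of_algebraMap_eq fun _ => rfl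
      haveI : IsScalarTower Γ(S, V) Γ(S', V') Γ(X', W') := .of_algebraMap_eq' (by
        show ((f.appLE V W e) ≫ g'.appLE W W' eW).hom = ((g.appLE V V' e') ≫ f'.appLE V' W' eV).hom
        simp only [Scheme.Hom.appLE_comp_appLE, hw])
      haveI : SMulCommClass Γ(S', V') Γ(X, W) Γ(X', W') :=
        ⟨fun a b c => by simp only [Algebra.smul_def]; ring⟩
      IsBaseChange Γ(X', W') (KaehlerDifferential.map Γ(S, V) Γ(S', V') Γ(X, W) Γ(X', W'))) :
    Function.Bijective (c.app W') := by
  haveI := isQCoh_of_universal hd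
  let gΩ := (Scheme.Modules.pullback g').obj Ω
  let A := Γ(S, V)
  let B := Γ(X, W)
  let A' := Γ(S', V')
  let B' := Γ(X', W')
  letI : Algebra A B := (f.appLE V W e).hom.toAlgebra
  letI : Algebra A A' := (g.appLE V V' e').hom.toAlgebra
  letI : Algebra B B' := (g'.appLE W W' eW).hom.toAlgebra
  letI : Algebra A' B' := (f'.appLE V' W' eV).hom.toAlgebra
  letI : Algebra A B' := ((g'.appLE W W' eW).hom.comp (f.appLE V W e).hom).toAlgebra
  haveI : IsScalarTower A B B' := .of_algebraMap_eq fun _ => rfl
  haveI : IsScalarTower A A' B' := .of_algebraMap_eq' (by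
      show ((f.appLE V W e) ≫ g'.appLE W W' eW).hom =
        ((g.appLE V V' e') ≫ f'.appLE V' W' eV).hom
      simp only [Scheme.Hom.appLE_comp_appLE, hw])
  haveI : SMulCommClass A' B B' := ⟨fun a b c => by simp only [Algebra.smul_def]; ring⟩
  obtain ⟨T, hT⟩ := exists_lin_of_der d e
  obtain ⟨T', hT'⟩ := exists_lin_of_der d' eV
  have hTb := bijective_of_universal hV hW e hd T hT
  have hTb' := bijective_of_universal hV' hW' eV hd' T' hT'
  letI : Module B Γ(gΩ, W') := Module.compHom _ (g'.appLE W W' eW).hom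
  haveI : IsScalarTower B B' Γ(gΩ, W') := .of_algebraMap_smul fun _ _ => rfl
  let p : Γ(Ω, W) →ₗ[B] Γ(gΩ, W') := PullbackMod.pullMapL g' Ω (W' := W') eW
  have hbc : IsBaseChange B' p := PullbackMod.isBaseChange_pullMapL g' Ω hW hW' eW
  let q : Ω[B⁄A] →ₗ[B] Γ(gΩ, W') := p ∘ₗ T
  have hp : IsBaseChange B' q := by
    refine IsBaseChange.of_equiv ((TensorProduct.AlgebraTensorModule.congr
      (LinearEquiv.refl B' B') (LinearEquiv.ofBijective T hTb)).trans hbc.equiv) fun x => ?_
    rw [LinearEquiv.trans_apply, TensorProduct.AlgebraTensorModule.congr_tmul, hbc.equiv_tmul]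
    exact one_smul _ _
  -- Kähler differentials of the base change
  let cL : Γ(gΩ, W') →ₗ[B'] Γ(Ω', W') :=
    { toFun := c.app W'
      map_add' := map_add _
      map_smul' := fun r m => Scheme.Modules.Hom.app_smul c r m }
  have hcomp : ∀ b : B, cL (p (T (KaehlerDifferential.D A B b))) =
      T' (KaehlerDifferential.D A' B' (algebraMap B B' b)) := fun b => by
    rw [hT, hT']
    show c.app W' (gΩ.presheaf.map (homOfLE eW).op
      (OmegaSh.pullSect g' Ω W (d.app W b))) = _
    rw [hom_natural, hc, ← app_res]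
    rfl
  have key : cL ∘ₗ (hK.equiv.symm.trans hp.equiv).toLinearMap = T' := by
    refine hK.algHom_ext _ _ fun x => ?_
    show cL (hp.equiv (hK.equiv.symm (KaehlerDifferential.map A A' B B' x))) = _
    rw [hK.equiv_symm_apply, hp.equiv_tmul, one_smul]
    have hx : x ∈ Submodule.span B (Set.range (KaehlerDifferential.D A B)) := by
      rw [KaehlerDifferential.span_range_derivation]; trivial
    induction hx using Submodule.span_induction with
    | mem y hy =>
      obtain ⟨b, rfl⟩ := hy
      rw [KaehlerDifferential.map_D]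
      exact hcomp b
    | zero => simp only [map_zero]
    | add y z _ _ hy hz => simp only [map_add, hy, hz]
    | smul b y _ hy =>
      rw [map_smul q, ← algebraMap_smul B' b (q y), map_smul, hy,
        map_smul (KaehlerDifferential.map A A' B B'),
        ← algebraMap_smul B' b (KaehlerDifferential.map A A' B B' y), map_smul]
  have hb : Function.Bijective (cL ∘ (hK.equiv.symm.trans hp.equiv)) := by
    rw [show (cL ∘ (hK.equiv.symm.trans hp.equiv)) = T' from funext fun z => LinearMap.congr_fun key z]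
    exact hTb'
  exact (Function.Bijective.of_comp_iff _ (hK.equiv.symm.trans hp.equiv).bijective).mp hb



end Groth.Agent.OmegaUnivLib
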