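import Mathlib
import Groth.Prelude.Def_Omega4

/-!
# Derivations of the structure sheaf of a scheme
-/

set_option autoImplicit false
set_option linter.style.haveILetI false

universe u

open CategoryTheory CategoryTheory.Limits AlgebraicGeometry TopologicalSpace Opposite

namespace Groth.Agent.OmegaUnivLib

variable {X Y : Scheme.{u}} {f : X ⟶ Y} {F G : X.Modules}

theorem app_res (D : OmegaSh.Der f F) {U V : X.Opens} (i : U ⟶ V) (s : Γ(X, V)) :
    D.app U (X.presheaf.map i.op s) = F.presheaf.map i.op (D.app V s) :=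
  D.d_map i.op s

theorem app_mul (D : OmegaSh.Der f F) (U : X.Opens) (a b : Γ(X, U)) :
    D.app U (a * b) = a • D.app U b + b • D.app U a :=
  D.d_mul a b

theorem app_one (D : OmegaSh.Der f F) (U : X.Opens) : D.app U 1 = 0 := D.d_one (op U)

theorem app_appLE (D : OmegaSh.Der f F) (V : Y.Opens) (U : X.Opens) (h : U ≤ f ⁻¹ᵁ V) (c : Γ(Y, V)) :
    D.app U (f.appLE V U h c) = 0 := by
  change D.app U (X.presheaf.map (homOfLE h).op (f.app V c)) = 0
  rw [app_res, show D.app (f ⁻¹ᵁ V) (f.app V c) = 0 from D.d_app (X := op V) c, map_zero]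

theorem der_ext {D D' : OmegaSh.Der f F} (h : ∀ (U : X.Opens) (s : Γ(X, U)), D.app U s = D'.app U s) :
    D = D' :=
  PresheafOfModules.Derivation.ext (funext fun U => AddMonoidHom.ext fun s => h U.unop s)

theorem postcomp_app (D : OmegaSh.Der f F) (α : F ⟶ G) (U : X.Opens) (s : Γ(X, U)) :
    OmegaSh.Der.app (D.postcomp α.val) U s = α.app U (D.app U s) :=
  rfl

/-- Post-composition of a derivation with a map of modules. -/
noncomputable abbrev comp (D : OmegaSh.Der f F) (α : F ⟶ G) : OmegaSh.Der f G := D.postcomp α.val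

theorem comp_comp {H : X.Modules} (D : OmegaSh.Der f F) (α : F ⟶ G) (β : G ⟶ H) :
    comp (comp D α) β = comp D (α ≫ β) :=
  der_ext fun _ _ => rfl

theorem comp_id (D : OmegaSh.Der f F) : comp D (𝟙 F) = D := der_ext fun _ _ => rfl

/-- Build a derivation from its values. -/
noncomputable def mkDer (δ : ∀ U : X.Opens, Γ(X, U) →+ Γ(F, U))
    (hmul : ∀ U a b, δ U (a * b) = a • δ U b + b • δ U a)
    (hmap : ∀ {U V : X.Opens} (i : U ⟶ V) (s : Γ(X, V)),
      δ U (X.presheaf.map i.op s) = F.presheaf.map i.op (δ V s))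
    (happ : ∀ (V : Y.Opens) (c : Γ(Y, V)), δ (f ⁻¹ᵁ V) (f.app V c) = 0) : OmegaSh.Der f F where
  d {U} := δ U.unop
  d_mul {U} a b := hmul U.unop a b
  d_map {_ _} i s := hmap i.unop s
  d_app {V} c := happ V.unop c

theorem mkDer_app (δ : ∀ U : X.Opens, Γ(X, U) →+ Γ(F, U))
    (hmul : ∀ U a b, δ U (a * b) = a • δ U b + b • δ U a)
    (hmap : ∀ {U V : X.Opens} (i : U ⟶ V) (s : Γ(X, V)),
      δ U (X.presheaf.map i.op s) = F.presheaf.map i.op (δ V s))
    (happ : ∀ (V : Y.Opens) (c : Γ(Y, V)), δ (f ⁻¹ᵁ V) (f.app V c) = 0) (U : X.Opens) (s : Γ(X, U)) :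
    (mkDer δ hmul hmap happ : OmegaSh.Der f F).app U s = δ U s :=
  rfl

theorem hom_natural (α : F ⟶ G) {U V : X.Opens} (i : U ⟶ V) (m : Γ(F, V)) :
    α.app U (F.presheaf.map i.op m) = G.presheaf.map i.op (α.app V m) :=
  congr($((Scheme.Modules.Hom.mapPresheaf α).naturality i.op) m)

/-- Universal derivations are unique up to a compatible isomorphism. -/
theorem exists_iso {d : OmegaSh.Der f F} {d' : OmegaSh.Der f G} (hd : OmegaSh.IsUniversal d)
    (hd' : OmegaSh.IsUniversal d') : ∃ e : F ≅ G, comp d e.hom = d' := by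
  obtain ⟨a, ha, -⟩ := hd G d'
  obtain ⟨b, hb, -⟩ := hd' F d
  refine ⟨⟨a, b, (hd F d).unique ?_ (comp_id d), (hd' G d').unique ?_ (comp_id d')⟩, ha⟩
  · show comp d (a ≫ b) = d
    rw [← comp_comp, show comp d a = d' from ha]; exact hb
  · show comp d' (b ≫ a) = d'
    rw [← comp_comp, show comp d' b = d from hb]; exact ha

end Groth.Agent.OmegaUnivLib
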