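import Groth.Agent.OmegaUnivLib.Basic
import Groth.Agent.OmegaAffLib.Main

/-!
# The differential into the conormal sheaf of the diagonal is a universal derivation
-/

set_option autoImplicit false
set_option linter.style.haveILetI false

universe u

open CategoryTheory CategoryTheory.Limits AlgebraicGeometry TopologicalSpace Opposite

namespace Groth.Agent.OmegaUnivLib

variable {X Y : Scheme.{u}} (f : X ⟶ Y)

/-- Affine opens lying over an affine open of the base. -/
def small : Set X.Opens := {U | IsAffineOpen U ∧ ∃ V : Y.Opens, IsAffineOpen V ∧ U ≤ f ⁻¹ᵁ V}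

theorem isBasis_small : Opens.IsBasis (small f) := by
  rw [Opens.isBasis_iff_nbhd]
  intro U x hx
  obtain ⟨_, ⟨V, hV, rfl⟩, hxV, -⟩ :=
    Y.isBasis_affineOpens.exists_subset_of_mem_open (Set.mem_univ (f x)) isOpen_univ
  obtain ⟨_, ⟨W, hW, rfl⟩, hxW, hWU⟩ := X.isBasis_affineOpens.exists_subset_of_mem_open (a := x)
    (u := ((f ⁻¹ᵁ V ⊓ U : X.Opens) : Set X)) ⟨hxV, hx⟩ (f ⁻¹ᵁ V ⊓ U).2
  exact ⟨W, ⟨hW, V, hV, fun y hy => (hWU hy).1⟩, hxW, fun y hy => (hWU hy).2⟩

theorem isBasis_range_small :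
    Opens.IsBasis (Set.range fun U : small f => (U : X.Opens)) := by
  rw [Subtype.range_coe]; exact isBasis_small f

variable [QuasiSeparated f]

theorem span_dSect {U : X.Opens} (hU : U ∈ small f) :
    Submodule.span Γ(X, U) (Set.range (OmegaSh.dSect f U)) = ⊤ := by
  obtain ⟨hUa, V, hV, h⟩ := hU
  letI := (f.appLE V U h).hom.toAlgebra
  let T : Ω[Γ(X, U)⁄Γ(Y, V)] →ₗ[Γ(X, U)] Γ(Omega.sheaf f, U) := (OmAff.toSect f V U h).hom
  have hT : ∀ b, T (KaehlerDifferential.D Γ(Y, V) Γ(X, U) b) = OmegaSh.dSect f U b :=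
    fun b => OmAff.toSect_d f V U h b
  have hb := OmegaAffLib.bijective_of_D f hV hUa h T hT
  have h1 : Set.range (OmegaSh.dSect f U) = T '' Set.range (KaehlerDifferential.D Γ(Y, V) Γ(X, U)) := by
    rw [← Set.range_comp]
    exact congrArg Set.range (funext fun b => (hT b).symm)
  rw [h1, Submodule.span_image, KaehlerDifferential.span_range_derivation, Submodule.map_top,
    LinearMap.range_eq_top.mpr hb.2]

theorem exists_lin {F : X.Modules} (D : OmegaSh.Der f F) {U : X.Opens} (hU : U ∈ small f) :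
    ∃ L : Γ(Omega.sheaf f, U) →ₗ[Γ(X, U)] Γ(F, U), ∀ s, L (OmegaSh.dSect f U s) = D.app U s := by
  obtain ⟨hUa, V, hV, h⟩ := hU
  letI := (f.appLE V U h).hom.toAlgebra
  letI : Module Γ(Y, V) Γ(F, U) := Module.compHom _ (f.appLE V U h).hom
  haveI : IsScalarTower Γ(Y, V) Γ(X, U) Γ(F, U) := .of_algebraMap_smul fun _ _ => rfl
  let T : Ω[Γ(X, U)⁄Γ(Y, V)] →ₗ[Γ(X, U)] Γ(Omega.sheaf f, U) := (OmAff.toSect f V U h).hom
  have hT : ∀ b, T (KaehlerDifferential.D Γ(Y, V) Γ(X, U) b) = OmegaSh.dSect f U b :=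
    fun b => OmAff.toSect_d f V U h b
  have hb := OmegaAffLib.bijective_of_D f hV hUa h T hT
  let δ : Derivation Γ(Y, V) Γ(X, U) Γ(F, U) := Derivation.mk'
    { toFun := fun s => D.app U s
      map_add' := map_add (D.app U)
      map_smul' := fun r s => by
        show D.app U (f.appLE V U h r * s) = f.appLE V U h r • D.app U s
        rw [app_mul, app_appLE, smul_zero, add_zero] }
    fun a b => app_mul D U a b
  refine ⟨δ.liftKaehlerDifferential ∘ₗ (LinearEquiv.ofBijective T hb).symm.toLinearMap, fun s => ?_⟩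
  show δ.liftKaehlerDifferential ((LinearEquiv.ofBijective T hb).symm (OmegaSh.dSect f U s)) = _
  rw [(LinearEquiv.symm_apply_eq (e := LinearEquiv.ofBijective T hb)).mpr (hT s).symm,
    Derivation.liftKaehlerDifferential_comp_D]
  rfl

theorem hom_ext_omega {F : X.Modules} {α β : Omega.sheaf f ⟶ F}
    (h : ∀ U ∈ small f, ∀ s, α.app U (OmegaSh.dSect f U s) = β.app U (OmegaSh.dSect f U s)) :
    α = β := by
  refine Scheme.Modules.hom_ext _ _ fun U => ?_
  refine ConcreteCategory.hom_ext _ _ fun m => ?_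
  obtain ⟨ι, W, hW, hle⟩ : ∃ (ι : Type u) (W : ι → X.Opens), (∀ i, W i ∈ small f ∧ W i ≤ U) ∧ U ≤ iSup W :=
    ⟨{W : X.Opens // W ∈ small f ∧ W ≤ U}, Subtype.val, fun i => i.2, fun x hx => by
      obtain ⟨W, hW, hxW, hWU⟩ := Opens.isBasis_iff_nbhd.mp (isBasis_small f) hx
      exact Opens.mem_iSup.mpr ⟨⟨W, hW, hWU⟩, hxW⟩⟩
  refine TopCat.Sheaf.eq_of_locally_eq' (⟨F.presheaf, F.isSheaf⟩ : TopCat.Sheaf Ab.{u} X.carrier)
    W U (fun i => homOfLE (hW i).2) hle _ _ fun i => ?_
  show F.presheaf.map (homOfLE (hW i).2).op (α.app U m) = F.presheaf.map (homOfLE (hW i).2).op (β.app U m)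
  rw [← hom_natural, ← hom_natural]
  have hm : (Omega.sheaf f).presheaf.map (homOfLE (hW i).2).op m ∈
      Submodule.span Γ(X, W i) (Set.range (OmegaSh.dSect f (W i))) := by
    rw [span_dSect f (hW i).1]; trivial
  generalize (Omega.sheaf f).presheaf.map (homOfLE (hW i).2).op m = z at hm ⊢
  induction hm using Submodule.span_induction with
  | mem y hy => obtain ⟨s, rfl⟩ := hy; exact h _ (hW i).1 s
  | zero => rw [map_zero, map_zero]
  | add y z _ _ hy hz => rw [map_add, map_add, hy, hz]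
  | smul a y _ hy => rw [Scheme.Modules.Hom.app_smul, Scheme.Modules.Hom.app_smul, hy]

theorem exists_hom_omega {F : X.Modules} (D : OmegaSh.Der f F) :
    ∃ α : Omega.sheaf f ⟶ F, comp (OmegaSh.dOmega f) α = D := by
  choose L hL using fun U : small f => exists_lin f D U.2
  let G : TopCat.Sheaf Ab.{u} X.carrier := ⟨F.presheaf, F.isSheaf⟩
  have hcompat : ∀ (U V : small f) (h : (V : X.Opens) ≤ U) (m : Γ(Omega.sheaf f, (U : X.Opens))),
      L V ((Omega.sheaf f).presheaf.map (homOfLE h).op m) = F.presheaf.map (homOfLE h).op (L U m) := by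
    intro U V h m
    have hm : m ∈ Submodule.span Γ(X, (U : X.Opens)) (Set.range (OmegaSh.dSect f (U : X.Opens))) := by
      rw [span_dSect f U.2]; trivial
    induction hm using Submodule.span_induction with
    | mem y hy =>
      obtain ⟨s, rfl⟩ := hy
      rw [hL, ← app_res]
      exact (congrArg (L V) (OmegaSh.dSect_map f h s).symm).trans (hL V _)
    | zero => simp only [map_zero]
    | add y z _ _ hy hz => simp only [map_add, hy, hz]
    | smul a y _ hy =>
      rw [Scheme.Modules.map_smul, map_smul, hy, map_smul, Scheme.Modules.map_smul]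
  let η : (inducedFunctor (fun U : small f => (U : X.Opens))).op ⋙ (Omega.sheaf f).presheaf ⟶
      (inducedFunctor (fun U : small f => (U : X.Opens))).op ⋙ G.1 :=
    { app := fun U => AddCommGrpCat.ofHom (L U.unop).toAddMonoidHom
      naturality := fun U V i => by
        refine AddCommGrpCat.hom_ext (AddMonoidHom.ext fun m => ?_)
        exact hcompat U.unop V.unop (leOfHom i.unop.hom) m }
  let φ := TopCat.Sheaf.restrictHomEquivHom (Omega.sheaf f).presheaf G (isBasis_range_small f) η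
  have hφ : ∀ (U : small f) (m : Γ(Omega.sheaf f, (U : X.Opens))),
      φ.app (op (U : X.Opens)) m = L U m := fun U m =>
    congr($(TopCat.Sheaf.extend_hom_app (Omega.sheaf f).presheaf G (isBasis_range_small f) η U) m)
  have hnat : ∀ {U W : X.Opens} (h : W ≤ U) (m : Γ(Omega.sheaf f, U)),
      F.presheaf.map (homOfLE h).op (φ.app (op U) m) =
        φ.app (op W) ((Omega.sheaf f).presheaf.map (homOfLE h).op m) := fun h m =>
    (congr($(φ.naturality (homOfLE h).op) m)).symm
  have hlin : ∀ (U : X.Opens) (r : Γ(X, U)) (m : Γ(Omega.sheaf f, U)),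
      (φ.app (op U) (r • m) : Γ(F, U)) = r • (show Γ(F, U) from φ.app (op U) m) := by
    intro U r m
    refine G.eq_of_locally_eq' (fun i : {W : X.Opens // W ∈ small f ∧ W ≤ U} => i.1) U
      (fun i => homOfLE i.2.2) (fun x hx => ?_) _ _ fun i => ?_
    · obtain ⟨W, hW, hxW, hWU⟩ := Opens.isBasis_iff_nbhd.mp (isBasis_small f) hx
      exact Opens.mem_iSup.mpr ⟨⟨W, hW, hWU⟩, hxW⟩
    show F.presheaf.map _ _ = F.presheaf.map _ _
    rw [hnat, Scheme.Modules.map_smul, Scheme.Modules.map_smul, hnat, hφ ⟨_, i.2.1⟩, hφ ⟨_, i.2.1⟩,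
      map_smul]
  let α : Omega.sheaf f ⟶ F :=
    ⟨PresheafOfModules.homMk (M₁ := (Omega.sheaf f).val) (M₂ := F.val) φ
      fun U r m => hlin U.unop r m⟩
  refine ⟨α, der_ext fun U s => ?_⟩
  refine G.eq_of_locally_eq' (fun i : {W : X.Opens // W ∈ small f ∧ W ≤ U} => i.1) U
    (fun i => homOfLE i.2.2) (fun x hx => ?_) _ _ fun i => ?_
  · obtain ⟨W, hW, hxW, hWU⟩ := Opens.isBasis_iff_nbhd.mp (isBasis_small f) hx
    exact Opens.mem_iSup.mpr ⟨⟨W, hW, hWU⟩, hxW⟩
  show F.presheaf.map (homOfLE i.2.2).op ((comp (OmegaSh.dOmega f) α).app U s) =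
    F.presheaf.map (homOfLE i.2.2).op (D.app U s)
  rw [← app_res, ← app_res, postcomp_app]
  exact (hφ ⟨_, i.2.1⟩ _).trans (hL _ _)

/-- The differential of a quasi-separated morphism is a universal derivation. -/
theorem isUniversal_dOmega : OmegaSh.IsUniversal (OmegaSh.dOmega f) := by
  intro F D
  obtain ⟨α, hα⟩ := exists_hom_omega f D
  refine ⟨α, hα, fun β hβ => hom_ext_omega f fun U _ s => ?_⟩
  exact congrArg (fun E : OmegaSh.Der f F => E.app U s) (hβ.trans hα.symm)

end Groth.Agent.OmegaUnivLib
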