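import Groth.Agent.OmegaUnivLib.Univ
import Groth.Agent.OmegaUnivLib.Local
import Groth.Agent.OmegaAffLib.Main
import Groth.Agent.DCohLib.QCohHD
import Groth.Agent.QCohLib.FiniteType
import Groth.Agent.PullbackMod.Props

/-!
# A sheaf of differentials on affine pieces
-/

set_option autoImplicit false
set_option backward.isDefEq.respectTransparency false
set_option linter.style.haveILetI false

universe u

open CategoryTheory CategoryTheory.Limits AlgebraicGeometry TopologicalSpace Opposite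

namespace Groth.Agent.OmegaUnivLib

variable {X Y : Scheme.{u}} {f : X ⟶ Y} {Ω : X.Modules} {d : OmegaSh.Der f Ω}

section

variable {V : Y.Opens} {U : X.Opens} (hV : IsAffineOpen V) (hU : IsAffineOpen U) (h : U ≤ f ⁻¹ᵁ V)

/-- The derivation restricted to `U ⟶ V`. -/
noncomputable abbrev derU (d : OmegaSh.Der f Ω) : OmegaSh.Der (f.resLE V U h) (Ω.restrict U.ι) :=
  restrictDer U.ι V.ι (Scheme.Hom.resLE_comp_ι f h) d

include hV hU in
theorem exists_iso_restrict (hd : OmegaSh.IsUniversal d) :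
    ∃ (_ : QuasiSeparated (f.resLE V U h)) (e : Omega.sheaf (f.resLE V U h) ≅ Ω.restrict U.ι),
      ∀ W s, e.hom.app W (OmegaSh.dSect (f.resLE V U h) W s) = (derU h d).app W s := by
  haveI : IsAffine U.toScheme := hU
  haveI : IsAffine V.toScheme := hV
  haveI hqs : QuasiSeparated (f.resLE V U h) := inferInstance
  obtain ⟨e, he⟩ := exists_iso (isUniversal_dOmega (f.resLE V U h))
    (isUniversal_restrictDer U.ι V.ι (Scheme.Hom.resLE_comp_ι f h) hd)
  exact ⟨hqs, e, fun W s => congrArg (fun E : OmegaSh.Der (f.resLE V U h) _ => E.app W s) he⟩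

include hV hU in
theorem isQCoh_restrict (hd : OmegaSh.IsUniversal d) (h : U ≤ f ⁻¹ᵁ V) :
    Coh.IsQCoh (Ω.restrict U.ι) := by
  obtain ⟨hqs, e, -⟩ := exists_iso_restrict hV hU h hd
  exact (SheafOfModules.isQuasicoherent U.toScheme.ringCatSheaf).prop_of_iso e
    (OmegaAffLib.isQCoh_omega (f.resLE V U h))

/-- The map from the Kähler differentials to the sections of a sheaf of differentials. -/
theorem exists_lin_of_der (d : OmegaSh.Der f Ω) (h : U ≤ f ⁻¹ᵁ V) :
    letI := (f.appLE V U h).hom.toAlgebra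
    ∃ T : Ω[Γ(X, U)⁄Γ(Y, V)] →ₗ[Γ(X, U)] Γ(Ω, U),
      ∀ b, T (KaehlerDifferential.D Γ(Y, V) Γ(X, U) b) = d.app U b := by
  letI := (f.appLE V U h).hom.toAlgebra
  letI : Module Γ(Y, V) Γ(Ω, U) := Module.compHom _ (f.appLE V U h).hom
  haveI : IsScalarTower Γ(Y, V) Γ(X, U) Γ(Ω, U) := .of_algebraMap_smul fun _ _ => rfl
  let δ : Derivation Γ(Y, V) Γ(X, U) Γ(Ω, U) := Derivation.mk'
    { toFun := fun s => d.app U s
      map_add' := map_add (d.app U)
      map_smul' := fun r s => by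
        show d.app U (f.appLE V U h r * s) = f.appLE V U h r • d.app U s
        rw [app_mul, app_appLE, smul_zero, add_zero] }
    fun a b => app_mul d U a b
  exact ⟨δ.liftKaehlerDifferential, fun b => δ.liftKaehlerDifferential_comp_D b⟩

theorem appLE_topIso (c : Γ(V.toScheme, ⊤)) :
    U.topIso.hom ((f.resLE V U h).appLE ⊤ ⊤ le_top c) = f.appLE V U h (V.topIso.hom c) := by
  have e : (f.resLE V U h).appLE ⊤ ⊤ le_top ≫ U.topIso.hom = V.topIso.hom ≫ f.appLE V U h := by
    rw [Scheme.Hom.resLE_appLE, Scheme.Opens.topIso_hom, Scheme.Opens.topIso_hom,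
      Scheme.Hom.appLE_map, Scheme.Hom.map_appLE]
  exact congr($e c)

theorem res_image_top (s : Γ(U.toScheme, ⊤)) :
    X.presheaf.map (eqToHom U.ι_image_top.symm).op ((U.ι.appIso ⊤).inv s) = U.topIso.hom s := by
  rw [Scheme.Opens.ι_appIso, Scheme.Opens.topIso_hom]
  rfl

include hV hU in
/-- On affine pieces a sheaf of differentials has the Kähler differentials as sections. -/
theorem bijective_of_universal (hd : OmegaSh.IsUniversal d) :
    letI := (f.appLE V U h).hom.toAlgebra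
    ∀ T : Ω[Γ(X, U)⁄Γ(Y, V)] →ₗ[Γ(X, U)] Γ(Ω, U),
      (∀ b, T (KaehlerDifferential.D Γ(Y, V) Γ(X, U) b) = d.app U b) → Function.Bijective T := by
  letI := (f.appLE V U h).hom.toAlgebra
  intro T hT
  haveI : IsAffine U.toScheme := hU
  haveI : IsAffine V.toScheme := hV
  obtain ⟨hqs, e, he⟩ := exists_iso_restrict hV hU h hd
  let g := f.resLE V U h
  have htop : (⊤ : U.toScheme.Opens) ∈ small g := ⟨isAffineOpen_top _, ⊤, isAffineOpen_top _, le_top⟩
  -- move a section on `U` to a section on the open subscheme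
  let ρ : Γ(Ω, U) →+ Γ(Ω.restrict U.ι, ⊤) :=
    (Ω.presheaf.map (eqToHom U.ι_image_top).op).hom
  let ρ' : Γ(Ω.restrict U.ι, ⊤) →+ Γ(Ω, U) :=
    (Ω.presheaf.map (eqToHom U.ι_image_top.symm).op).hom
  have hρ : ∀ m, ρ' (ρ m) = m := fun m => by
    exact congr($((Ω.presheaf.mapIso (eqToIso U.ι_image_top).op).hom_inv_id) m)
  have hρ' : ∀ m, ρ (ρ' m) = m := fun m => by
    exact congr($((Ω.presheaf.mapIso (eqToIso U.ι_image_top).op).inv_hom_id) m)
  have hd' : ∀ s : Γ(U.toScheme, ⊤), ρ' ((derU h d).app ⊤ s) = d.app U (U.topIso.hom s) := fun s => by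
    rw [restrictDer_app]
    exact (app_res d _ _).symm.trans (congrArg (d.app U) (res_image_top s))
  have hsmul : ∀ (a : Γ(U.toScheme, ⊤)) (m : Γ(Ω.restrict U.ι, ⊤)),
      ρ' (a • m) = U.topIso.hom a • ρ' m := fun a m => by
    refine (Scheme.Modules.map_smul Ω (eqToHom U.ι_image_top.symm) _ _).trans ?_
    rw [← res_image_top a]
    rfl
  constructor
  · -- a left inverse
    letI : Module Γ(U.toScheme, ⊤) Ω[Γ(X, U)⁄Γ(Y, V)] := Module.compHom _ U.topIso.hom.hom
    letI := (g.appLE ⊤ ⊤ le_top).hom.toAlgebra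
    letI : Module Γ(V.toScheme, ⊤) Ω[Γ(X, U)⁄Γ(Y, V)] :=
      Module.compHom _ (U.topIso.hom.hom.comp (g.appLE ⊤ ⊤ le_top).hom)
    haveI : IsScalarTower Γ(V.toScheme, ⊤) Γ(U.toScheme, ⊤) Ω[Γ(X, U)⁄Γ(Y, V)] :=
      .of_algebraMap_smul fun _ _ => rfl
    let δ : Derivation Γ(V.toScheme, ⊤) Γ(U.toScheme, ⊤) Ω[Γ(X, U)⁄Γ(Y, V)] := Derivation.mk'
      { toFun := fun s => KaehlerDifferential.D Γ(Y, V) Γ(X, U) (U.topIso.hom s)
        map_add' := fun s t => by rw [map_add, map_add]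
        map_smul' := fun r s => by
          show KaehlerDifferential.D Γ(Y, V) Γ(X, U) (U.topIso.hom (g.appLE ⊤ ⊤ le_top r * s)) =
            U.topIso.hom (g.appLE ⊤ ⊤ le_top r) • _
          rw [map_mul, Derivation.leibniz, appLE_topIso h]
          rw [show KaehlerDifferential.D Γ(Y, V) Γ(X, U) (f.appLE V U h (V.topIso.hom r)) = 0 from
            Derivation.map_algebraMap _ _, smul_zero, add_zero] }
      fun s t => by
        show KaehlerDifferential.D Γ(Y, V) Γ(X, U) (U.topIso.hom (s * t)) =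
          U.topIso.hom s • KaehlerDifferential.D Γ(Y, V) Γ(X, U) (U.topIso.hom t) +
            U.topIso.hom t • KaehlerDifferential.D Γ(Y, V) Γ(X, U) (U.topIso.hom s)
        rw [map_mul, Derivation.leibniz]
    let T₀ : Ω[Γ(U.toScheme, ⊤)⁄Γ(V.toScheme, ⊤)] →ₗ[Γ(U.toScheme, ⊤)] Γ(Omega.sheaf g, ⊤) :=
      (OmAff.toSect g ⊤ ⊤ le_top).hom
    have hT₀ : ∀ b, T₀ (KaehlerDifferential.D Γ(V.toScheme, ⊤) Γ(U.toScheme, ⊤) b) = OmegaSh.dSect g ⊤ b :=
      fun b => OmAff.toSect_d g ⊤ ⊤ le_top b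
    have hb := OmegaAffLib.bijective_of_D g (isAffineOpen_top _) (isAffineOpen_top _) le_top T₀ hT₀
    let Tinv := (LinearEquiv.ofBijective T₀ hb).symm
    suffices hs : ∀ x, δ.liftKaehlerDifferential (Tinv (e.inv.app ⊤ (ρ (T x)))) = x by
      intro x y hxy
      rw [← hs x, hxy, hs y]
    intro x
    have hx : x ∈ Submodule.span Γ(X, U) (Set.range (KaehlerDifferential.D Γ(Y, V) Γ(X, U))) := by
      rw [KaehlerDifferential.span_range_derivation]; trivial
    induction hx using Submodule.span_induction with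
    | mem y hy =>
      obtain ⟨b, rfl⟩ := hy
      obtain ⟨b, rfl⟩ : ∃ c, U.topIso.hom c = b := ⟨U.topIso.inv b, congr($(U.topIso.inv_hom_id) b)⟩
      rw [hT, ← hd', hρ', ← he]
      rw [show e.inv.app ⊤ (e.hom.app ⊤ (OmegaSh.dSect g ⊤ b)) = OmegaSh.dSect g ⊤ b from
        congr($(e.hom_inv_id).app ⊤ (OmegaSh.dSect g ⊤ b))]
      rw [show Tinv (OmegaSh.dSect g ⊤ b) = KaehlerDifferential.D _ _ b from
        (LinearEquiv.symm_apply_eq _).mpr (hT₀ b).symm, δ.liftKaehlerDifferential_comp_D]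
      rfl
    | zero => simp only [map_zero]
    | add y z _ _ hy hz => simp only [map_add, hy, hz]
    | smul b y _ hy =>
      obtain ⟨b, rfl⟩ : ∃ c, U.topIso.hom c = b := ⟨U.topIso.inv b, congr($(U.topIso.inv_hom_id) b)⟩
      have h1 : ρ (U.topIso.hom b • T y) = b • ρ (T y) :=
        (Function.LeftInverse.injective hρ') (by rw [hρ, hsmul, hρ])
      rw [map_smul, h1, Scheme.Modules.Hom.app_smul]
      erw [map_smul Tinv, map_smul δ.liftKaehlerDifferential, hy]
      rfl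
  · intro m
    have hm : e.inv.app ⊤ (ρ m) ∈ Submodule.span Γ(U.toScheme, ⊤) (Set.range (OmegaSh.dSect g ⊤)) := by
      rw [span_dSect g htop]; trivial
    suffices hsurj : ∀ z ∈ Submodule.span Γ(U.toScheme, ⊤) (Set.range (OmegaSh.dSect g ⊤)),
        ∃ x, T x = ρ' (e.hom.app ⊤ z) by
      obtain ⟨x, hx⟩ := hsurj _ hm
      refine ⟨x, hx.trans ?_⟩
      rw [show e.hom.app ⊤ (e.inv.app ⊤ (ρ m)) = ρ m from congr($(e.inv_hom_id).app ⊤ (ρ m)), hρ]
    intro z hz
    induction hz using Submodule.span_induction with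
    | mem y hy =>
      obtain ⟨s, rfl⟩ := hy
      exact ⟨KaehlerDifferential.D Γ(Y, V) Γ(X, U) (U.topIso.hom s),
        by rw [hT, he]; exact (hd' s).symm⟩
    | zero => exact ⟨0, by rw [map_zero, map_zero, map_zero]⟩
    | add y z _ _ hy hz =>
      obtain ⟨x, hx⟩ := hy
      obtain ⟨x', hx'⟩ := hz
      exact ⟨x + x', by rw [map_add, map_add, map_add, hx, hx']⟩
    | smul a y _ hy =>
      obtain ⟨x, hx⟩ := hy
      exact ⟨U.topIso.hom a • x, by rw [map_smul, hx, Scheme.Modules.Hom.app_smul, hsmul]⟩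

end

theorem isQCoh_of_universal (hd : OmegaSh.IsUniversal d) : Coh.IsQCoh Ω := by
  refine DCohLib.isQCoh_of_local fun x => ?_
  obtain ⟨U, ⟨hU, V, hV, h⟩, hxU, -⟩ :=
    Opens.isBasis_iff_nbhd.mp (isBasis_small f) (Opens.mem_top x)
  exact ⟨U, hxU, isQCoh_restrict hV hU hd h⟩

theorem isFT_of_universal [LocallyOfFiniteType f] (hd : OmegaSh.IsUniversal d) : CohB1.IsFT Ω := by
  haveI := isQCoh_of_universal hd
  refine QCohLib.isFiniteType_of_finite Ω (fun U : small f => (U : X.Opens)) (fun U => U.2.1) ?_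
    fun U => ?_
  · refine eq_top_iff.mpr fun x _ => ?_
    obtain ⟨W, hW, hxW, -⟩ := Opens.isBasis_iff_nbhd.mp (isBasis_small f) (Opens.mem_top x)
    exact Opens.mem_iSup.mpr ⟨⟨W, hW⟩, hxW⟩
  obtain ⟨hU, V, hV, h⟩ := U.2
  letI := (f.appLE V U h).hom.toAlgebra
  haveI : Algebra.FiniteType Γ(Y, V) Γ(X, U) := f.finiteType_appLE hV hU h
  obtain ⟨T, hT⟩ := exists_lin_of_der d h
  exact Module.Finite.of_surjective T (bijective_of_universal hV hU h hd T hT).2

theorem isFP_of_universal [LocallyOfFinitePresentation f] (hd : OmegaSh.IsUniversal d) :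
    CohB1.IsFP Ω := by
  haveI := isQCoh_of_universal hd
  refine PullbackMod.isFP_of_finitePresentation Ω (fun U : small f => (U : X.Opens)) (fun U => U.2.1) ?_
    fun U => ?_
  · refine eq_top_iff.mpr fun x _ => ?_
    obtain ⟨W, hW, hxW, -⟩ := Opens.isBasis_iff_nbhd.mp (isBasis_small f) (Opens.mem_top x)
    exact Opens.mem_iSup.mpr ⟨⟨W, hW⟩, hxW⟩
  obtain ⟨hU, V, hV, h⟩ := U.2
  letI := (f.appLE V U h).hom.toAlgebra
  haveI : Algebra.FinitePresentation Γ(Y, V) Γ(X, U) := f.finitePresentation_appLE hV hU h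
  obtain ⟨T, hT⟩ := exists_lin_of_der d h
  exact Module.FinitePresentation.of_equiv
    (LinearEquiv.ofBijective T (bijective_of_universal hV hU h hd T hT))

end Groth.Agent.OmegaUnivLib
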