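import Mathlib
import Groth.Agent.QCohLib.FPSections

/-!
# Maps out of a quasi-coherent module on an affine scheme
-/

set_option autoImplicit false
set_option backward.isDefEq.respectTransparency false
set_option linter.style.haveILetI false

universe u

open CategoryTheory CategoryTheory.Limits AlgebraicGeometry TopologicalSpace Opposite

namespace Groth.Agent.OmegaUnivLib

variable {X : Scheme.{u}} [IsAffine X] (M : X.Modules) [Coh.IsQCoh M] (F : X.Modules)

/-- A linear map on global sections extends to a map of modules. -/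
theorem exists_hom_of_lin (L : Γ(M, ⊤) →ₗ[Γ(X, ⊤)] Γ(F, ⊤)) :
    ∃ α : M ⟶ F, ∀ m, α.app ⊤ m = L m := by
  classical
  let G : TopCat.Sheaf Ab.{u} X.carrier := ⟨F.presheaf, F.isSheaf⟩
  let B : Set X.Opens := Set.range (X.basicOpen : Γ(X, ⊤) → X.Opens)
  have hB : Opens.IsBasis B := isBasis_basicOpen X
  have hB' : Opens.IsBasis (Set.range fun U : B => (U : X.Opens)) := by
    rw [Subtype.range_coe]; exact hB
  have hloc : ∀ U : B, ∃ N : Γ(M, (U : X.Opens)) →+ Γ(F, (U : X.Opens)),
      (∀ (r : Γ(X, (U : X.Opens))) m, N (r • m) = r • N m) ∧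
      ∀ m, N (M.presheaf.map (homOfLE le_top).op m) = F.presheaf.map (homOfLE le_top).op (L m) := by
    rintro ⟨_, a, rfl⟩
    letI : Module Γ(X, ⊤) Γ(M, X.basicOpen a) :=
      Module.compHom _ (X.presheaf.map (homOfLE (X.basicOpen_le a)).op).hom
    letI : Module Γ(X, ⊤) Γ(F, X.basicOpen a) :=
      Module.compHom _ (X.presheaf.map (homOfLE (X.basicOpen_le a)).op).hom
    let r : Γ(M, ⊤) →ₗ[Γ(X, ⊤)] Γ(M, X.basicOpen a) :=
      { toFun := M.presheaf.map (homOfLE (X.basicOpen_le a)).op
        map_add' := fun s t => map_add _ s t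
        map_smul' := fun b s => Scheme.Modules.map_smul M _ b s }
    let q : Γ(M, ⊤) →ₗ[Γ(X, ⊤)] Γ(F, X.basicOpen a) :=
      { toFun := fun m => F.presheaf.map (homOfLE (X.basicOpen_le a)).op (L m)
        map_add' := fun s t => by rw [map_add, map_add]
        map_smul' := fun b s => by
          rw [map_smul, Scheme.Modules.map_smul]
          rfl }
    obtain ⟨u, hu⟩ : IsUnit (X.presheaf.map (homOfLE (X.basicOpen_le a)).op a) :=
      X.toRingedSpace.isUnit_res_basicOpen a
    have hunit : ∀ (n : ℕ) (z : Γ(F, X.basicOpen a)),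
        ∃! w : Γ(F, X.basicOpen a), (X.presheaf.map (homOfLE (X.basicOpen_le a)).op a) ^ n • w = z := by
      intro n z
      rw [← hu, ← Units.val_pow_eq_pow_val]
      refine ⟨((u ^ n)⁻¹ : _).val • z, ?_, fun w hw => ?_⟩
      · show (u ^ n).val • ((u ^ n)⁻¹ : _).val • z = z
        rw [smul_smul, Units.mul_inv, one_smul]
      · show w = ((u ^ n)⁻¹ : _).val • z
        rw [← hw, smul_smul, Units.inv_mul, one_smul]
    have hl : IsLocalizedModule (Submonoid.powers a) r := by
      have hl := QCohLib.locAt M (isAffineOpen_top X)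
      refine IsLocalizedModule.Away.mk_of_addCommGroup ?_ ?_ ?_
      · refine (Module.End.isUnit_iff _).mpr ?_
        show Function.Bijective fun v : Γ(M, X.basicOpen a) =>
          X.presheaf.map (homOfLE (X.basicOpen_le a)).op a • v
        rw [← hu]
        exact MulAction.bijective u
      · intro t
        obtain ⟨n, s, hs⟩ := hl.extend a t
        exact ⟨n, s, hs.symm⟩
      · intro s hs
        obtain ⟨n, hn⟩ := hl.kill a s hs
        exact ⟨n, (QCohLib.sc_le_rfl (a ^ n) s).symm.trans hn⟩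
    have hq : ∀ x : Submonoid.powers a,
        IsUnit ((algebraMap Γ(X, ⊤) (Module.End Γ(X, ⊤) Γ(F, X.basicOpen a))) x) := by
      rintro ⟨_, n, rfl⟩
      refine (Module.End.isUnit_iff _).mpr ?_
      show Function.Bijective fun v : Γ(F, X.basicOpen a) =>
        X.presheaf.map (homOfLE (X.basicOpen_le a)).op (a ^ n) • v
      rw [map_pow, ← hu, ← Units.val_pow_eq_pow_val]
      exact MulAction.bijective (u ^ n)
    haveI := hl
    let N := IsLocalizedModule.lift (Submonoid.powers a) r q hq
    refine ⟨N.toAddMonoidHom, fun s m => ?_, fun m => ?_⟩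
    · -- linearity over the localised ring
      obtain ⟨n, s₀, hs₀⟩ : ∃ (n : ℕ) (s₀ : Γ(X, ⊤)),
          X.presheaf.map (homOfLE (X.basicOpen_le a)).op (a ^ n) * s =
            X.presheaf.map (homOfLE (X.basicOpen_le a)).op s₀ := by
        haveI : IsLocalization.Away a Γ(X, X.basicOpen a) :=
          (isAffineOpen_top X).isLocalization_basicOpen a
        obtain ⟨⟨s₀, ⟨_, n, rfl⟩⟩, h⟩ := IsLocalization.surj (Submonoid.powers a) s
        exact ⟨n, s₀, (mul_comm _ _).trans h⟩
      refine (hunit n (s₀ • N m)).unique ?_ ?_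
      · rw [← map_pow]
        show (a ^ n) • N (s • m) = s₀ • N m
        rw [← map_smul, ← map_smul]
        congr 1
        show X.presheaf.map (homOfLE (X.basicOpen_le a)).op (a ^ n) • s • m =
          X.presheaf.map (homOfLE (X.basicOpen_le a)).op s₀ • m
        rw [smul_smul, hs₀]
      · rw [← map_pow, smul_smul, hs₀]
        rfl
    · exact IsLocalizedModule.lift_apply (Submonoid.powers a) r q hq m
  choose N hNlin hN using hloc
  have hcompat : ∀ (U V : B) (h : (V : X.Opens) ≤ U) (m : Γ(M, (U : X.Opens))),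
      N V (M.presheaf.map (homOfLE h).op m) = F.presheaf.map (homOfLE h).op (N U m) := by
    intro U V h m
    obtain ⟨_, a, rfl⟩ := U
    have hl := QCohLib.locAt M (isAffineOpen_top X)
    obtain ⟨n, s, hs⟩ := hl.extend a m
    rw [CohBase.sc_apply] at hs
    have h1 := congrArg (fun z => N V (M.presheaf.map (homOfLE h).op z)) hs
    have h2 : N V (M.presheaf.map (homOfLE h).op (M.presheaf.map (homOfLE (X.basicOpen_le a)).op s)) =
        F.presheaf.map (homOfLE h).op (N ⟨_, a, rfl⟩ (M.presheaf.map (homOfLE (X.basicOpen_le a)).op s)) := by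
      rw [hN, ← ConcreteCategory.comp_apply, ← Functor.map_comp, ← op_comp]
      refine (hN V s).trans ?_
      rw [← ConcreteCategory.comp_apply, ← Functor.map_comp]
      rfl
    rw [hs] at h2
    rw [Scheme.Modules.map_smul, hNlin, hNlin, Scheme.Modules.map_smul] at h2
    obtain ⟨w, hw⟩ : IsUnit (X.presheaf.map (homOfLE h).op
        (X.presheaf.map (homOfLE (X.basicOpen_le a)).op (a ^ n))) :=
      (show IsUnit (X.presheaf.map (homOfLE (X.basicOpen_le a)).op (a ^ n)) by
        rw [map_pow]; exact (X.toRingedSpace.isUnit_res_basicOpen a).pow n).map _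
    rw [← hw] at h2
    exact (MulAction.bijective w).1 h2
  let η : (inducedFunctor (fun U : B => (U : X.Opens))).op ⋙ M.presheaf ⟶
      (inducedFunctor (fun U : B => (U : X.Opens))).op ⋙ G.1 :=
    { app := fun U => AddCommGrpCat.ofHom (N U.unop)
      naturality := fun U V i => by
        refine AddCommGrpCat.hom_ext (AddMonoidHom.ext fun m => ?_)
        exact hcompat U.unop V.unop (leOfHom i.unop.hom) m }
  let φ := TopCat.Sheaf.restrictHomEquivHom M.presheaf G hB' η
  have hφ : ∀ (U : B) (m : Γ(M, (U : X.Opens))), φ.app (op (U : X.Opens)) m = N U m := fun U m =>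
    congr($(TopCat.Sheaf.extend_hom_app M.presheaf G hB' η U) m)
  have hnat : ∀ {U W : X.Opens} (h : W ≤ U) (m : Γ(M, U)),
      F.presheaf.map (homOfLE h).op (φ.app (op U) m) =
        φ.app (op W) (M.presheaf.map (homOfLE h).op m) := fun h m =>
    (congr($(φ.naturality (homOfLE h).op) m)).symm
  have hlin : ∀ (U : X.Opens) (r : Γ(X, U)) (m : Γ(M, U)),
      (φ.app (op U) (r • m) : Γ(F, U)) = r • (show Γ(F, U) from φ.app (op U) m) := by
    intro U r m
    refine G.eq_of_locally_eq' (fun i : {W : X.Opens // W ∈ B ∧ W ≤ U} => i.1) U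
      (fun i => homOfLE i.2.2) (fun x hx => ?_) _ _ fun i => ?_
    · obtain ⟨W, hW, hxW, hWU⟩ := Opens.isBasis_iff_nbhd.mp hB hx
      exact Opens.mem_iSup.mpr ⟨⟨W, hW, hWU⟩, hxW⟩
    show F.presheaf.map _ _ = F.presheaf.map _ _
    rw [hnat, Scheme.Modules.map_smul, Scheme.Modules.map_smul, hnat, hφ ⟨_, i.2.1⟩, hφ ⟨_, i.2.1⟩,
      hNlin]
  refine ⟨⟨PresheafOfModules.homMk (M₁ := M.val) (M₂ := F.val) φ fun U r m => hlin U.unop r m⟩,
    fun m => ?_⟩
  have htop : (⊤ : X.Opens) ∈ B := ⟨1, X.basicOpen_of_isUnit isUnit_one⟩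
  show φ.app (op ⊤) m = L m
  have h1 := (hφ ⟨⊤, htop⟩ m).trans (congrArg (N ⟨⊤, htop⟩) (congr($(M.presheaf.map_id _) m)).symm)
  exact h1.trans ((hN ⟨⊤, htop⟩ m).trans congr($(F.presheaf.map_id _) (L m)))

end Groth.Agent.OmegaUnivLib
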